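import Cfsg.Agent.H51.E6Max.Cert
import Cfsg.Agent.H51.E6Max.Lg.Data
/-! Kernel checks of the certificate. -/

set_option autoImplicit false
set_option maxRecDepth 100000
set_option maxHeartbeats 0

namespace H51.E6Max.Lg

open H60.TE6 H51.E6Max

theorem xw_lt : ∀ a ∈ xw, a < 16 := by decide +kernel

theorem x_eq : evL (lw xw) idY = X := by decide +kernel

theorem x_pow : powB 7 X Xs = true := by decide +kernel

theorem a_eq : X ^^^ idY = A := by decide +kernel

theorem F_zero : mulP A FB = 0 := by decide +kernel

theorem F_split : mulP FR A ^^^ mulP FB FC = idY := by decide +kernel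

theorem wt_lt : ∀ q ∈ WT, q.1 < 78 := by decide +kernel

theorem W_zero : mulP WQ WB = 0 := by decide +kernel

theorem W_split : mulP WR WQ ^^^ mulP WB WC = idY := by decide +kernel

theorem w_le : brLeB WQ FB FB = true := by decide +kernel

theorem w_ge : brSum FB FB WT = WB := by decide +kernel

theorem hw_lt : ∀ a ∈ hw, a < 16 := by decide +kernel

theorem h_eq : evL (lw hw) idY = HM := by decide +kernel

theorem h_sq : mulP HM HM = idY := by decide +kernel

theorem h_stab : mulP WQ (mulP HM WB) = 0 := by decide +kernel

theorem h_out : ((List.range 7).all fun i => H48.E6Max.nzB (mulP (mulP HM X) HM ^^^ Xs.getD i 0)) = true := by decide +kernel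

theorem gw_lt : ∀ a ∈ gw, a < 16 := by decide +kernel

theorem g_eq : evL (lw gw) idY = GM := by decide +kernel

theorem g_move : H48.E6Max.nzB (mulP WQ (mulP GM WB)) = true := by decide +kernel

end H51.E6Max.Lg
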